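import Groth.Agent.Lib.DepthRes13.Main
import Groth.Agent.Lib.EtDer.NormalConst
import Groth.Agent.LocFAdic21.ClopenFF
import Groth.Prelude.Def_FEt

/-!
# Etale depth at most two and clopen subsets
-/

set_option autoImplicit false
set_option backward.isDefEq.respectTransparency false
set_option backward.isDefEq.respectTransparency.types false
set_option linter.all false

universe u

open CategoryTheory CategoryTheory.Limits AlgebraicGeometry Opposite
open GrothLib.EtDer

noncomputable section

namespace GrothLib.DepthFEt13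

/-- Clopen subsets missing the source are empty. -/
def InjS {P T : Scheme.{u}} (h : P ⟶ T) : Prop :=
  ∀ D : Set T, IsClopen D → h ⁻¹' D = ∅ → D = ∅

/-- Clopen subsets of the source extend. -/
def SurjS {P T : Scheme.{u}} (h : P ⟶ T) : Prop :=
  ∀ C : Set P, IsClopen C → ∃ D : Set T, IsClopen D ∧ h ⁻¹' D = C

theorem injS_of_range {P P' T : Scheme.{u}} (h : P ⟶ T) (h' : P' ⟶ T) (e : Set.range h = Set.range h')
    (H : InjS h) : InjS h' := fun D hD he => H D hD (Set.eq_empty_iff_forall_notMem.2 fun p hp => by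
      obtain ⟨p', hp'⟩ : h p ∈ Set.range h' := e.subset ⟨p, rfl⟩
      exact Set.eq_empty_iff_forall_notMem.1 he p' (show h' p' ∈ D from hp'.symm ▸ hp))

theorem surjS_of_range {P P' T : Scheme.{u}} (h : P ⟶ T) (h' : P' ⟶ T) [IsOpenImmersion h]
    [IsOpenImmersion h'] (e : Set.range h = Set.range h')
    (H : SurjS h) : SurjS h' := fun C hC => by
  let i := IsOpenImmersion.isoOfRangeEq h h' e
  obtain ⟨D, hD, hDC⟩ := H (i.hom ⁻¹' C) (hC.preimage i.hom.continuous)
  refine ⟨D, hD, Set.ext fun p => ?_⟩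
  have h1 : h (i.inv p) = h' p :=
    congrArg (fun m : P' ⟶ T => m p) (IsOpenImmersion.isoOfRangeEq_inv_fac h h' e)
  have h2 : i.hom (i.inv p) = p := congrArg (fun m : P' ⟶ P' => m p) i.inv_hom_id
  have h3 : h (i.inv p) ∈ D ↔ i.hom (i.inv p) ∈ C := Set.ext_iff.1 hDC (i.inv p)
  rw [h1, h2] at h3
  exact h3

variable {X U : Scheme.{u}} (j : U ⟶ X) [IsOpenImmersion j]

section sections

variable (M : AddCommGrpCat.{u + 1})

theorem injective_iff_injS (hM : Nontrivial M) (V : X.Etale) :
    Function.Injective ((constUnit M j).hom.app (op V)) ↔ InjS (bcProj j V) := by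
  constructor
  · intro h D hD he
    classical
    obtain ⟨a, b, hab⟩ := hM
    let φ : V.left → M := fun v => if v ∈ D then a else b
    have hφ : IsLocallyConstant φ := (IsLocallyConstant.iff_exists_open _).2 fun v => by
      by_cases hv : v ∈ D
      · exact ⟨D, hD.isOpen, hv, fun p hp => by simp [φ, hv, hp]⟩
      · exact ⟨Dᶜ, hD.compl.isOpen, hv, fun p hp => by simp [φ, hv, show p ∉ D from hp]⟩
    obtain ⟨s, hs⟩ := exists_val M V φ hφ
    obtain ⟨t, ht⟩ := exists_val M V (fun _ => b) (IsLocallyConstant.const b)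
    have hst : s = t := h (ext_val M _ _ _ fun w => by
      rw [val_constUnit, val_constUnit, hs, ht]
      exact if_neg fun hw => Set.eq_empty_iff_forall_notMem.1 he w hw)
    refine Set.eq_empty_of_forall_notMem fun v hv => hab ?_
    have h1 := (hs v).symm.trans ((congrArg (fun z => val M V z v) hst).trans (ht v))
    simpa [φ, hv] using h1
  · intro H s t h
    refine ext_val M V s t fun v => ?_
    by_contra hv
    let D : Set V.left := {p | val M V s p ≠ val M V t p}
    have hD : IsClopen D := by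
      have := ((isLocallyConstant_val M V s).prodMk (isLocallyConstant_val M V t)).isClopen_fiber
      exact ⟨(((isLocallyConstant_val M V s).prodMk (isLocallyConstant_val M V t))
          {q | q.1 ≠ q.2}ᶜ).isClosed_compl |> fun hc => by simpa [D, Set.compl_setOf] using hc,
        ((isLocallyConstant_val M V s).prodMk (isLocallyConstant_val M V t)) {q | q.1 ≠ q.2}⟩
    have he : (bcProj j V) ⁻¹' D = ∅ := Set.eq_empty_of_forall_notMem fun w hw => hw (by
      rw [← val_constUnit, ← val_constUnit, h])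
    exact Set.eq_empty_iff_forall_notMem.1 (H D hD he) v hv

theorem surjS_of_surjective (hM : Nontrivial M) (V : X.Etale)
    (h : Function.Surjective ((constUnit M j).hom.app (op V))) : SurjS (bcProj j V) := by
  intro C hC
  classical
  obtain ⟨a, b, hab⟩ := hM
  let φ : ((EtCoh.bc j).obj V).left → M := fun v => if v ∈ C then a else b
  have hφ : IsLocallyConstant φ := (IsLocallyConstant.iff_exists_open _).2 fun v => by
    by_cases hv : v ∈ C
    · exact ⟨C, hC.isOpen, hv, fun p hp => by simp [φ, hv, hp]⟩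
    · exact ⟨Cᶜ, hC.compl.isOpen, hv, fun p hp => by simp [φ, hv, show p ∉ C from hp]⟩
  obtain ⟨t, ht⟩ := exists_val M _ φ hφ
  obtain ⟨s, hs⟩ := h t
  refine ⟨val M V s ⁻¹' {a}, (isLocallyConstant_val M V s).isClopen_fiber a, Set.ext fun w => ?_⟩
  have h1 : val M V s ((bcProj j V).base w) = φ w := by
    rw [← val_constUnit, hs, ht]
  change val M V s ((bcProj j V).base w) = a ↔ _
  rw [h1]
  by_cases hw : w ∈ C <;> simp [φ, hw, hab.symm]

theorem surjective_of_surjS [Finite M] (V : X.Etale) (hi : InjS (bcProj j V)) (hs : SurjS (bcProj j V)) :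
    Function.Surjective ((constUnit M j).hom.app (op V)) := by
  intro t
  let φ := val M _ t
  have hφ : IsLocallyConstant φ := isLocallyConstant_val M _ t
  choose D hD hDφ using fun m : M => hs (φ ⁻¹' {m}) (hφ.isClopen_fiber m)
  have hdisj : ∀ m m', m ≠ m' → D m ∩ D m' = ∅ := fun m m' hne => by
    refine hi _ ((hD m).inter (hD m')) (Set.eq_empty_of_forall_notMem fun w hw => hne ?_)
    exact ((Set.ext_iff.1 (hDφ m) w).1 hw.1).symm.trans ((Set.ext_iff.1 (hDφ m') w).1 hw.2)
  have hcov : ∀ v, ∃ m, v ∈ D m := by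
    intro v
    by_contra hv
    have hE : IsClopen (⋃ m, D m)ᶜ := (isClopen_iUnion_of_finite hD).compl
    have := hi _ hE (Set.eq_empty_of_forall_notMem fun w hw => hw (Set.mem_iUnion.2
      ⟨φ w, (Set.ext_iff.1 (hDφ (φ w)) w).2 rfl⟩))
    exact Set.eq_empty_iff_forall_notMem.1 this v fun h => hv (Set.mem_iUnion.1 h)
  choose ψ hψ using hcov
  have huniq : ∀ v m, v ∈ D m → ψ v = m := fun v m hm => by
    by_contra hne
    exact Set.eq_empty_iff_forall_notMem.1 (hdisj _ _ hne) v ⟨hψ v, hm⟩
  have hψ' : IsLocallyConstant ψ := (IsLocallyConstant.iff_exists_open _).2 fun v =>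
    ⟨D (ψ v), (hD _).isOpen, hψ v, fun p hp => huniq p _ hp⟩
  obtain ⟨s, hs'⟩ := exists_val M V ψ hψ'
  refine ⟨s, ext_val M _ _ t fun w => ?_⟩
  rw [val_constUnit, hs']
  exact huniq _ _ ((Set.ext_iff.1 (hDφ (φ w)) w).2 rfl)

theorem unit_eq :
    (EtCoh.pullPushAdj j).unit.app (CM M X) =
      constUnit M j ≫ (EtCoh.push j).map ((EtCore.pullConstIso j).inv.app M) := by
  rw [constUnit, Category.assoc, ← Functor.map_comp, Iso.hom_inv_id_app]
  erw [CategoryTheory.Functor.map_id, Category.comp_id]

theorem mono_iff : Mono ((EtCoh.pullPushAdj j).unit.app (CM M X)) ↔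
    ∀ V : X.Etale, Function.Injective ((constUnit M j).hom.app (op V)) := by
  rw [unit_eq, mono_comp_iff_of_mono]
  constructor
  · intro h V
    haveI : Mono (constUnit M j).hom := inferInstanceAs (Mono ((sheafToPresheaf _ _).map (constUnit M j)))
    exact (AddCommGrpCat.mono_iff_injective _).1 (inferInstance : Mono ((constUnit M j).hom.app (op V)))
  · intro h
    haveI : ∀ V, Mono ((constUnit M j).hom.app V) := fun V => (AddCommGrpCat.mono_iff_injective _).2 (h V.unop)
    haveI : Mono (constUnit M j).hom := NatTrans.mono_of_mono_app _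
    exact (sheafToPresheaf _ _).mono_of_mono_map (show Mono ((sheafToPresheaf _ _).map (constUnit M j)) from
      (inferInstance : Mono (constUnit M j).hom))

theorem isIso_iff : IsIso ((EtCoh.pullPushAdj j).unit.app (CM M X)) ↔
    ∀ V : X.Etale, Function.Bijective ((constUnit M j).hom.app (op V)) := by
  rw [unit_eq, isIso_comp_right_iff]
  constructor
  · intro h V
    haveI : IsIso ((constUnit M j).hom.app (op V)) :=
      inferInstanceAs (IsIso ((((sheafToPresheaf _ _).map (constUnit M j))).app (op V)))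
    exact (ConcreteCategory.isIso_iff_bijective _).1 inferInstance
  · intro h
    haveI : ∀ V, IsIso ((constUnit M j).hom.app V) := fun V =>
      (ConcreteCategory.isIso_iff_bijective _).2 (h V.unop)
    haveI : IsIso (constUnit M j).hom := NatIso.isIso_of_isIso_app _
    haveI : IsIso ((sheafToPresheaf _ _).map (constUnit M j)) := ‹IsIso (constUnit M j).hom›
    exact isIso_of_reflects_iso (constUnit M j) (sheafToPresheaf _ _)

end sections

theorem range_fst_eq {X' : Scheme.{u}} (g : X' ⟶ X) (A : FEt.Cat X') :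
    Set.range (pullback.fst A.hom (pullback.snd j g)) = (A.hom ≫ g) ⁻¹' Set.range j := by
  rw [Scheme.Pullback.range_fst, Scheme.Pullback.range_snd]
  rfl

theorem range_bcProj (V : X.Etale) : Set.range (bcProj j V) = V.hom ⁻¹' Set.range j :=
  Scheme.Pullback.range_fst _ _

theorem depth_one_iff :
    (∀ ℓ : ℕ, ℓ.Prime → EtDepth.DepthGE j (EtCoh.const X (ZMod ℓ)) 1) ↔
      ∀ V : X.Etale, InjS (bcProj j V) := by
  constructor
  · intro h V
    haveI : Fact (Nat.Prime 2) := ⟨Nat.prime_two⟩
    let M : AddCommGrpCat.{u + 1} := AddCommGrpCat.of (ULift.{u + 1} (ZMod 2))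
    have hM : Nontrivial M := inferInstanceAs (Nontrivial (ULift.{u + 1} (ZMod 2)))
    have h1 : Mono ((EtCoh.pullPushAdj j).unit.app (CM M X)) :=
      (GrothLib.DepthRes13.isZero_locCoh_zero_iff j _).1 (h 2 Nat.prime_two 0 (by omega))
    exact (injective_iff_injS j M hM V).1 ((mono_iff j M).1 h1 V)
  · intro h ℓ hℓ p hp
    obtain rfl : p = 0 := by omega
    haveI : Fact ℓ.Prime := ⟨hℓ⟩
    let M : AddCommGrpCat.{u + 1} := AddCommGrpCat.of (ULift.{u + 1} (ZMod ℓ))
    have hM : Nontrivial M := inferInstanceAs (Nontrivial (ULift.{u + 1} (ZMod ℓ)))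
    exact (GrothLib.DepthRes13.isZero_locCoh_zero_iff j _).2
      ((mono_iff j M).2 fun V => (injective_iff_injS j M hM V).2 (h V))

theorem depth_two_iff :
    (∀ ℓ : ℕ, ℓ.Prime → EtDepth.DepthGE j (EtCoh.const X (ZMod ℓ)) 2) ↔
      ∀ V : X.Etale, InjS (bcProj j V) ∧ SurjS (bcProj j V) := by
  constructor
  · intro h V
    haveI : Fact (Nat.Prime 2) := ⟨Nat.prime_two⟩
    let M : AddCommGrpCat.{u + 1} := AddCommGrpCat.of (ULift.{u + 1} (ZMod 2))
    have hM : Nontrivial M := inferInstanceAs (Nontrivial (ULift.{u + 1} (ZMod 2)))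
    haveI h1 : Mono ((EtCoh.pullPushAdj j).unit.app (CM M X)) :=
      (GrothLib.DepthRes13.isZero_locCoh_zero_iff j _).1 (h 2 Nat.prime_two 0 (by omega))
    haveI h2 : Epi ((EtCoh.pullPushAdj j).unit.app (CM M X)) :=
      (GrothLib.DepthRes13.isZero_locCoh_one_iff j _).1 (h 2 Nat.prime_two 1 (by omega))
    have h3 := (isIso_iff j M).1 (isIso_of_mono_of_epi _) V
    exact ⟨(injective_iff_injS j M hM V).1 h3.1, surjS_of_surjective j M hM V h3.2⟩
  · intro h ℓ hℓ p hp
    haveI : Fact ℓ.Prime := ⟨hℓ⟩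
    let M : AddCommGrpCat.{u + 1} := AddCommGrpCat.of (ULift.{u + 1} (ZMod ℓ))
    have hM : Nontrivial M := inferInstanceAs (Nontrivial (ULift.{u + 1} (ZMod ℓ)))
    haveI : Finite M := inferInstanceAs (Finite (ULift.{u + 1} (ZMod ℓ)))
    haveI h3 : IsIso ((EtCoh.pullPushAdj j).unit.app (CM M X)) := (isIso_iff j M).2 fun V =>
      ⟨(injective_iff_injS j M hM V).2 (h V).1, surjective_of_surjS j M V (h V).1 (h V).2⟩
    obtain rfl | rfl : p = 0 ∨ p = 1 := by omega
    · exact (GrothLib.DepthRes13.isZero_locCoh_zero_iff j _).2 (inferInstance : Mono ((EtCoh.pullPushAdj j).unit.app (CM M X)))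
    · exact (GrothLib.DepthRes13.isZero_locCoh_one_iff j _).2 (inferInstance : Epi ((EtCoh.pullPushAdj j).unit.app (CM M X)))

/-- The trivial cover. -/
def trivCover (X' : Scheme.{u}) : FEt.Cat X' :=
  MorphismProperty.Over.mk ⊤ (𝟙 X') ⟨inferInstance, inferInstance⟩

/-- The etale scheme of a cover. -/
def etaleOf {X' : Scheme.{u}} (g : X' ⟶ X) [Etale g] (A : FEt.Cat X') : X.Etale :=
  haveI : Etale A.hom := A.prop.2
  haveI : Etale (A.hom ≫ g) := inferInstance
  MorphismProperty.Over.mk ⊤ (A.hom ≫ g) ‹_›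

theorem range_etaleOf {X' : Scheme.{u}} (g : X' ⟶ X) [Etale g] (A : FEt.Cat X') :
    Set.range (bcProj j (etaleOf g A)) = Set.range (pullback.fst A.hom (pullback.snd j g)) :=
  (range_bcProj j _).trans (range_fst_eq j g A).symm

theorem range_triv (V : X.Etale) :
    Set.range (pullback.fst (trivCover V.left).hom (pullback.snd j V.hom)) = Set.range (bcProj j V) := by
  rw [range_fst_eq, range_bcProj]
  rfl

theorem injS_iff_faithful : (∀ V : X.Etale, InjS (bcProj j V)) ↔
    ∀ (X' : Scheme.{u}) (g : X' ⟶ X) [Etale g], (FEt.restrict (pullback.snd j g)).Faithful := by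
  constructor
  · intro h X' g _
    refine GrothLib.FEt21.faithful_of_clopenInj _ fun A => ?_
    exact injS_of_range _ _ (range_etaleOf j g A) (h (etaleOf g A))
  · intro h V
    haveI : Etale V.hom := V.prop
    exact injS_of_range _ _ (range_triv j V)
      (GrothLib.LocFAdic21.clopenInj_of_faithful _ (h V.left V.hom) (trivCover V.left))

theorem surjS_iff_full : (∀ V : X.Etale, InjS (bcProj j V) ∧ SurjS (bcProj j V)) ↔
    ∀ (X' : Scheme.{u}) (g : X' ⟶ X) [Etale g],
      (FEt.restrict (pullback.snd j g)).Full ∧ (FEt.restrict (pullback.snd j g)).Faithful := by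
  constructor
  · intro h X' g _
    refine GrothLib.FEt21.fullyFaithful_of_clopen _ (fun A => ?_) (fun A => ?_)
    · exact injS_of_range _ _ (range_etaleOf j g A) (h (etaleOf g A)).1
    · exact surjS_of_range _ _ (range_etaleOf j g A) (h (etaleOf g A)).2
  · intro h V
    haveI : Etale V.hom := V.prop
    exact ⟨injS_of_range _ _ (range_triv j V)
      (GrothLib.LocFAdic21.clopenInj_of_faithful _ (h V.left V.hom).2 (trivCover V.left)),
      surjS_of_range _ _ (range_triv j V)
      (GrothLib.LocFAdic21.clopenSurj_of_full _ (h V.left V.hom).1 (trivCover V.left))⟩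

end GrothLib.DepthFEt13
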